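import Groth.Agent.KFlatLib.Scheme.Tensor
import Groth.Agent.ExtShX.Adjunction
import Groth.Agent.Lib.CurveTensor
import Groth.Agent.Lib.InvEnd
import Groth.Agent.Synt29.ConormalExact

/-!
# Global generation of `ker (O^(n+1) → L) ⊗ L` by Koszul relations
-/

set_option autoImplicit false
set_option linter.style.haveILetI false
set_option backward.isDefEq.respectTransparency false
set_option backward.isDefEq.respectTransparency.types false

universe u

open CategoryTheory CategoryTheory.Limits AlgebraicGeometry TopologicalSpace Opposite MonoidalCategory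
open scoped TensorProduct

noncomputable section

namespace Groth.Agent.KoszulGG

open Groth.Agent

variable {X : Scheme.{u}}

theorem swap_eq_of_free_one {R M : Type u} [CommRing R] [Nontrivial R] [AddCommGroup M] [Module R M]
    (hf : Module.Free R M) (h : Module.finrank R M = 1) (a b : M) : a ⊗ₜ[R] b = b ⊗ₜ[R] a := by
  haveI := hf
  haveI : Module.Finite R M := Module.finite_of_finrank_pos (by omega)
  let e := Module.basisUnique (R := R) (M := M) Unit h
  rw [← e.sum_repr a, ← e.sum_repr b]
  simp only [Finset.univ_unique, Finset.sum_singleton, TensorProduct.smul_tmul', TensorProduct.tmul_smul,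
    smul_smul, mul_comm]

/-- The braiding of `L ⊗ L` is the identity for invertible `L`. -/
theorem flip_hom_app_self {L : X.Modules} (hL : PicF.IsInvertible L) :
    ((KFlatLib.tensorBiFlipIso X).hom.app L).app L = 𝟙 _ := by
  let P := DCoh.toP.obj L
  show DCoh.shP.map (β_ P P).hom = 𝟙 (DCoh.shP.obj (P ⊗ P))
  refine Synt29.ConormalExact.hom_ext_stalk _ _ fun x m => ?_
  have hβ : (KFlatLib.stalkP x).map (β_ P P).hom = 𝟙 _ := by
    refine KFlatLib.stalkMod_ext fun U hU z => ?_
    refine (KFlatLib.stalkModMap_germ (β_ P P).hom U hU z).trans ?_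
    show KFlatLib.germP (P ⊗ P) U hU ((β_ P P).hom.app (op U) z) = KFlatLib.germP (P ⊗ P) U hU z
    induction z using KFlatLib.tm_induction with
    | h0 => rw [map_zero]
    | htm s t =>
      show KFlatLib.germP (P ⊗ P) U hU (KFlatLib.tm t s) = KFlatLib.germP (P ⊗ P) U hU (KFlatLib.tm s t)
      rw [← KFlatLib.ofTensor_germ, ← KFlatLib.ofTensor_germ]
      refine congrArg _ ?_
      have hr := InvEnd.isFinLocFreeOfRank_one hL
      exact swap_eq_of_free_one (R := X.presheaf.stalk x) (M := KFlatLib.stalkMod x P) (ExtShX.finrank_stalk_eq hr x).1 (ExtShX.finrank_stalk_eq hr x).2.2 _ _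
    | hadd a b ha hb => rw [map_add, map_add, map_add, ha, hb]
  have h := (KFlatLib.stalkShPIso x).hom.naturality (β_ P P).hom
  rw [hβ, Category.id_comp] at h
  have h' : (DerSch.stalkFunctor X x).map (DCoh.shP.map (β_ P P).hom) = 𝟙 _ :=
    (cancel_epi ((KFlatLib.stalkShPIso x).hom.app (P ⊗ P))).1 (h.symm.trans (Category.comp_id _).symm)
  rw [h', CategoryTheory.Functor.map_id]

end Groth.Agent.KoszulGG
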