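import Groth.Agent.KoszulGG.Basic
import Groth.Agent.DefAmple.Basic
import Groth.Agent.KFlatLib.Scheme.QCohTensor

/-!
# The Koszul relations generate `ker (O^(n+1) → L) ⊗ L`
-/

set_option autoImplicit false
set_option linter.style.haveILetI false
set_option backward.isDefEq.respectTransparency false
set_option backward.isDefEq.respectTransparency.types false

universe u

open CategoryTheory CategoryTheory.Limits AlgebraicGeometry TopologicalSpace Opposite

noncomputable section

namespace Groth.Agent.KoszulGG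

open Groth.Agent

variable {X : Scheme.{u}}

theorem isFlat_invertible {L : X.Modules} (hL : PicF.IsInvertible L) : FlatMod.IsFlat L := fun x => by
  haveI := (ExtShX.finrank_stalk_eq (InvEnd.isFinLocFreeOfRank_one hL) x).1
  exact (inferInstance : Module.Flat (X.presheaf.stalk x) (L.presheaf.stalk x))

/-- Maps out of a tensor square of `O^ι` are detected on global sections. -/
theorem gg_tensor_free {n : ℕ} (E : X.Modules) (eE : E ≅ FlatMod.freeMod X n) :
    Euler.GG ((DCoh.tensorBi.obj E).obj E) := fun T g hg => by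
  let F := DCoh.tensorBi.obj E
  haveI : PreservesFiniteColimits F := CanonDual.preservesFiniteColimits_tensor E
  let f := fun _ : Fin n => Coh.structureModule X
  refine (cancel_epi ((PreservesCoproduct.iso F f).inv ≫ F.map eE.inv)).1 (Sigma.hom_ext _ _ fun j => ?_)
  rw [comp_zero, comp_zero]
  have hj : Sigma.ι (fun j => F.obj (f j)) j ≫ (PreservesCoproduct.iso F f).inv = F.map (Sigma.ι f j) := by
    rw [PreservesCoproduct.inv_hom, ι_comp_sigmaComparison]
  rw [Category.assoc, reassoc_of% hj]
  refine (cancel_epi (eE.inv ≫ (KFlatLib.tensorUnitIso E).inv)).1 (Sigma.hom_ext _ _ fun i => ?_)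
  rw [comp_zero, comp_zero]
  refine Eq.trans ?_ (hg (Sigma.ι f i ≫ eE.inv ≫ (KFlatLib.tensorUnitIso E).inv ≫
    F.map (Sigma.ι f j) ≫ F.map eE.inv))
  simp only [Category.assoc]
  rfl

/-- The antisymmetrisation of `E ⊗ σ` restricts to `K ⊗ σ` on the kernel. -/
theorem exists_koszul_lift {C : Type*} [Category C] [Preadditive C] (T : C ⥤ C ⥤ C) (β : T.flip ⟶ T)
    {E L K : C} (σ : E ⟶ L) (ι : K ⟶ E) (w : ι ≫ σ = 0) [(T.obj E).Additive]
    (hLL : (β.app L).app L = 𝟙 _) [Mono ((T.map ι).app L)]
    (hl : ∀ (a : (T.obj E).obj E ⟶ (T.obj E).obj L), a ≫ (T.map σ).app L = 0 → ∃ a', a' ≫ (T.map ι).app L = a) :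
    ∃ a' : (T.obj E).obj E ⟶ (T.obj K).obj L, (T.map ι).app E ≫ a' = (T.obj K).map σ := by
  let b : (T.obj E).obj E ⟶ (T.obj E).obj E := (β.app E).app E
  have h1 : (T.map σ).app E ≫ (β.app E).app L = b ≫ (T.obj E).map σ := (β.app E).naturality σ
  have h2 : (T.obj L).map σ = (β.app E).app L ≫ (T.map σ).app L :=
    ((congrArg ((T.obj L).map σ ≫ ·) hLL).trans (Category.comp_id _)).symm.trans
      (NatTrans.congr_app (β.naturality σ) L)
  have h3 : (T.map σ).app E ≫ (T.obj L).map σ = (T.obj E).map σ ≫ (T.map σ).app L :=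
    ((T.map σ).naturality σ).symm
  have hq : (b ≫ (T.obj E).map σ) ≫ (T.map σ).app L = (T.obj E).map σ ≫ (T.map σ).app L :=
    (congrArg (· ≫ (T.map σ).app L) h1.symm).trans
      ((Category.assoc _ _ _).trans ((congrArg ((T.map σ).app E ≫ ·) h2.symm).trans h3))
  obtain ⟨a', ha'⟩ := hl ((T.obj E).map σ - b ≫ (T.obj E).map σ) (by
    rw [Preadditive.sub_comp, hq, sub_self])
  refine ⟨a', ?_⟩
  have h4 : (T.map ι).app E ≫ b = (β.app E).app K ≫ (T.obj E).map ι := (β.app E).naturality ι
  rw [← cancel_mono ((T.map ι).app L), Category.assoc, ha', Preadditive.comp_sub]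
  have h6 : (T.map ι).app E ≫ b ≫ (T.obj E).map σ = 0 :=
    ((Category.assoc _ _ _).symm.trans (congrArg (· ≫ (T.obj E).map σ) h4)).trans
      ((Category.assoc _ _ _).trans ((congrArg ((β.app E).app K ≫ ·)
        (((T.obj E).map_comp ι σ).symm.trans ((congrArg (T.obj E).map w).trans (Functor.map_zero _ _ _)))).trans comp_zero))
  rw [h6, sub_zero]
  exact ((T.map ι).naturality σ).symm

/-- For an epimorphism `σ : O^n → L` onto an invertible module, `ker σ ⊗ L` is globally generated. -/
theorem isGloballyGenerated_kernel_tensor {L : X.Modules} (hL : PicF.IsInvertible L) {n : ℕ}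
    (σ : FlatMod.freeMod X n ⟶ L) [Epi σ] :
    Curv2.IsGloballyGenerated (CohB1.tensorMod (kernel σ) L) := by
  let E := FlatMod.freeMod X n
  have hS : (ShortComplex.mk (kernel.ι σ) σ (kernel.condition σ)).ShortExact :=
    { exact := ShortComplex.exact_of_f_is_kernel _ (kernelIsKernel σ) }
  have hSL := KFlatLib.flatObj_of_isFlat (isFlat_invertible hL) _ hS
  haveI : Mono ((DCoh.tensorBi.map (kernel.ι σ)).app L) := hSL.mono_f
  haveI : PreservesFiniteColimits (DCoh.tensorBi.obj E) := CanonDual.preservesFiniteColimits_tensor E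
  haveI : (DCoh.tensorBi.obj E).Additive := Functor.additive_of_preserves_binary_products _
  obtain ⟨a', key⟩ := exists_koszul_lift DCoh.tensorBi (KFlatLib.tensorBiFlipIso X).hom σ (kernel.ι σ)
    (kernel.condition σ) (flip_hom_app_self hL) fun a ha =>
      ⟨hSL.fIsKernel.lift (KernelFork.ofι a ha), hSL.fIsKernel.fac (KernelFork.ofι a ha) WalkingParallelPair.zero⟩
  haveI : Epi ((DCoh.tensorBi.obj (kernel σ)).map σ) := by
    haveI : PreservesFiniteColimits (DCoh.tensorBi.obj (kernel σ)) := CanonDual.preservesFiniteColimits_tensor _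
    infer_instance
  haveI : Epi a' := epi_of_epi_fac key
  refine Euler.GG.isGloballyGenerated fun W g hg => ?_
  refine (cancel_epi a').1 (Eq.trans ?_ comp_zero.symm)
  exact gg_tensor_free E (Iso.refl _) _ _ fun s => (Category.assoc _ _ _).symm.trans (hg (s ≫ a'))

end Groth.Agent.KoszulGG
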